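import Cfsg.Agent.H389.NR.Fr

/-!
# The prime graph depends on the set of element orders only
-/

set_option autoImplicit false

namespace Cfsg.Agent.H389.NR

open Cfsg.Agent.H389.JSq (Has)

theorem prime_dvd_iff_has {G : Type*} [Group G] [Finite G] {p : ℕ} (hp : p.Prime) : p ∣ Nat.card G ↔ Has G p := by
  have := Fact.mk hp
  constructor
  · intro h
    obtain ⟨x, hx⟩ := exists_prime_orderOf_dvd_card' p h
    exact ⟨x, hx⟩
  · rintro ⟨x, hx⟩
    rw [← hx]
    exact orderOf_dvd_natCard x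

theorem Disc.of_range {G L : Type*} [Group G] [Group L] [Finite G] [Finite L]
    (h : Set.range (orderOf : G → ℕ) = Set.range (orderOf : L → ℕ)) (hL : Disc L) : Disc G := by
  have key : ∀ n, Has G n ↔ Has L n := fun n => by
    have := Set.ext_iff.mp h n
    simpa [Has] using this
  have hd : ∀ {p : ℕ}, p.Prime → (p ∣ Nat.card G ↔ p ∣ Nat.card L) := fun hp => by
    rw [prime_dvd_iff_has hp, prime_dvd_iff_has hp, key]
  obtain ⟨A, ⟨a, haA, ha, had⟩, ⟨b, hbA, hb, hbd⟩, hAB⟩ := hL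
  refine ⟨A, ⟨a, haA, ha, (hd ha).2 had⟩, ⟨b, hbA, hb, (hd hb).2 hbd⟩, ?_⟩
  intro x hx y hy hxp hyp hxd hyd hh
  exact hAB x hx y hy hxp hyp ((hd hxp).1 hxd) ((hd hyp).1 hyd) ((key _).1 hh)

theorem Disc.congr {G L : Type*} [Group G] [Group L] [Finite G] [Finite L] (e : G ≃* L) (hL : Disc L) : Disc G := by
  refine hL.of_range ?_
  ext n
  constructor
  · rintro ⟨x, rfl⟩
    exact ⟨e x, e.orderOf_eq x⟩
  · rintro ⟨y, rfl⟩
    exact ⟨e.symm y, e.symm.orderOf_eq y⟩

end Cfsg.Agent.H389.NR
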