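import Cfsg.Agent.H389.NR.Fr
import Cfsg.Agent.H466.Split
import Cfsg.Agent.S0205

/-!
# S3440: the case of a disconnected prime graph (helper389), light part
-/

set_option autoImplicit false

namespace Cfsg.Agent.H389.NR

open Cfsg.Agent.H389.JSq (Has)
open Cfsg.Agent.H466.Split

universe u

section

variable {G : Type u} [Group G] [Finite G]

/-- the primes joined to 2 -/
def P1 (G : Type u) [Group G] : Set ℕ :=
  {p | Relation.ReflTransGen (fun a b : ℕ => a.Prime ∧ b.Prime ∧ a ≠ b ∧ a ∣ Nat.card G ∧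
    b ∣ Nat.card G ∧ ∃ g : G, orderOf g = a * b) 2 p}

theorem spl_p1 : Spl (P1 G) G := by
  refine Spl.of_disc ?_
  intro a ha b hb hap hbp had hbd hg
  refine hb (Relation.ReflTransGen.tail ha ⟨hap, hbp, ?_, had, hbd, hg⟩)
  rintro rfl
  exact hb ha

omit [Finite G] in
theorem exists_not_p1 (hd : Disc G) : ∃ s : ℕ, s.Prime ∧ s ∣ Nat.card G ∧ s ∉ P1 G := by
  obtain ⟨A, ⟨a, haA, hap, had⟩, ⟨b, hbA, hbp, hbd⟩, h⟩ := hd
  by_cases h2 : 2 ∈ A
  · refine ⟨b, hbp, hbd, ?_⟩
    intro hb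
    have key : ∀ p, p ∈ P1 G → p ∈ A := by
      intro p hp
      induction hp with
      | refl => exact h2
      | tail _ hbc ih =>
        obtain ⟨h1, h2', h3, h4, h5, h6⟩ := hbc
        by_contra hc
        exact h _ ih _ hc h1 h2' h4 h5 h6
    exact hbA (key b hb)
  · refine ⟨a, hap, had, ?_⟩
    intro ha
    have key : ∀ p, p ∈ P1 G → p ∉ A := by
      intro p hp
      induction hp with
      | refl => exact h2
      | tail _ hbc ih =>
        obtain ⟨h1, h2', h3, h4, h5, g, h6⟩ := hbc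
        intro hc
        exact h _ hc _ ih h2' h1 h5 h4 ⟨g, by rw [h6, mul_comm]⟩
    exact key a ha haA

omit [Finite G] in
/-- a solvable normal subgroup meets `M` in `N`, if `M / N` is simple nonabelian. -/
theorem inf_le_of_simple (N M : Subgroup G) [N.Normal]
    (hs : IsSimpleGroup (↥M ⧸ N.subgroupOf M)) (hc : ¬ IsMulCommutative (↥M ⧸ N.subgroupOf M))
    (K : Subgroup G) [K.Normal] (hK : Group.IsSolvable K) : K ⊓ M ≤ N := by
  have hn : ((K.subgroupOf M).map (QuotientGroup.mk' (N.subgroupOf M))).Normal :=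
    Subgroup.Normal.map inferInstance _ (QuotientGroup.mk'_surjective _)
  rcases hn.eq_bot_or_eq_top with hb | ht
  · rw [Subgroup.map_eq_bot_iff, QuotientGroup.ker_mk'] at hb
    intro x hx
    exact hb (x := ⟨x, (Subgroup.mem_inf.1 hx).2⟩) (Subgroup.mem_inf.1 hx).1
  · exfalso
    have hsK : Group.IsSolvable (K.subgroupOf M) :=
      Group.isSolvable_of_isSolvable_injective (f := (M.subtype).subgroupComap K)
        (fun a b hab => by
          have h1 : ((a : M) : G) = ((b : M) : G) := congrArg (fun z : K => (z : G)) hab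
          exact Subtype.ext (Subtype.ext h1))
    have h1 : Group.IsSolvable ((K.subgroupOf M).map (QuotientGroup.mk' (N.subgroupOf M))) :=
      Group.isSolvable_of_surjective (f := (QuotientGroup.mk' (N.subgroupOf M)).subgroupMap (K.subgroupOf M))
        ((QuotientGroup.mk' (N.subgroupOf M)).subgroupMap_surjective _)
    rw [ht] at h1
    have h6 : Group.IsSolvable (↥M ⧸ N.subgroupOf M) := Group.isSolvable_of_isSolvable_injective
      (f := (Subgroup.topEquiv.symm : (↥M ⧸ N.subgroupOf M) ≃* (⊤ : Subgroup (↥M ⧸ N.subgroupOf M))).toMonoidHom)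
      (Subgroup.topEquiv.symm : (↥M ⧸ N.subgroupOf M) ≃* _).injective
    exact hc ⟨⟨IsSimpleGroup.comm_iff_isSolvable.2 h6⟩⟩

omit [Finite G] in
/-- a solvable normal subgroup is a `π`-group when `N` and `G / M` are, `M / N` simple. -/
theorem card_radical {A : Set ℕ} (N M : Subgroup G) [N.Normal] [M.Normal]
    (hN : ∀ p : ℕ, p.Prime → p ∣ Nat.card N → p ∈ A)
    (hM : ∀ p : ℕ, p.Prime → p ∣ Nat.card (G ⧸ M) → p ∈ A)
    (hs : IsSimpleGroup (↥M ⧸ N.subgroupOf M)) (hc : ¬ IsMulCommutative (↥M ⧸ N.subgroupOf M))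
    (K : Subgroup G) [K.Normal] (hK : Group.IsSolvable K) :
    ∀ p : ℕ, p.Prime → p ∣ Nat.card K → p ∈ A := by
  have hle : K ⊓ M ≤ N := inf_le_of_simple N M hs hc K hK
  intro p hp hd
  have h1 : Nat.card K = Nat.card (K ⊓ M : Subgroup G) * M.relIndex K := by
    rw [← Subgroup.relIndex_bot_left, ← Subgroup.relIndex_bot_left, ← Subgroup.inf_relIndex_left K M,
      Subgroup.relIndex_mul_relIndex _ _ _ bot_le inf_le_left]
  rw [h1, hp.dvd_mul] at hd
  rcases hd with hd | hd
  · exact hN p hp (hd.trans (Subgroup.card_dvd_of_le hle))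
  · refine hM p hp (hd.trans ?_)
    rw [← Subgroup.index_eq_card]
    exact Subgroup.relIndex_dvd_index_of_normal M K

/-- **The disconnected case**, with the structure theorem and the Frobenius case as hypotheses -/
theorem nilpotent_of_structure (hG : ¬ Group.IsSolvable G) (hd : Disc G)
    (h : ∀ (_ : Even (Nat.card G)),
      (∃ C : Subgroup G, Cfsg.IsFrobeniusComplement C) ∨
      (∃ (H K : Subgroup G) (_ : H.Normal), K.Normal ∧ H < K ∧
        (∃ C : Subgroup ↥K, Cfsg.IsFrobeniusComplement C ∧ Cfsg.frobeniusKernel C = (H.subgroupOf K : Set ↥K)) ∧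
        (∃ C : Subgroup (G ⧸ H), Cfsg.IsFrobeniusComplement C ∧
          Cfsg.frobeniusKernel C = (K.map (QuotientGroup.mk' H) : Set (G ⧸ H)))) ∨
      (∃ (N M : Subgroup G) (_ : N.Normal) (_ : M.Normal), N ≤ M ∧
        (∀ p : ℕ, p.Prime → p ∣ Nat.card ↥N → p ∈ P1 G) ∧
        (∀ p : ℕ, p.Prime → p ∣ Nat.card (G ⧸ M) → p ∈ P1 G) ∧
        IsSimpleGroup (↥M ⧸ N.subgroupOf M) ∧ ¬ IsMulCommutative (↥M ⧸ N.subgroupOf M)))
    (hFr : ∀ C : Subgroup G, Cfsg.IsFrobeniusComplement C → Fr G) (hFr' : ¬ Fr G)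
    (h2 : ∀ (H K : Subgroup G) [H.Normal] [K.Normal], H < K →
      (∃ C : Subgroup ↥K, Cfsg.IsFrobeniusComplement C ∧ Cfsg.frobeniusKernel C = (H.subgroupOf K : Set ↥K)) →
      (∃ C : Subgroup (G ⧸ H), Cfsg.IsFrobeniusComplement C ∧
        Cfsg.frobeniusKernel C = (K.map (QuotientGroup.mk' H) : Set (G ⧸ H))) → Group.IsSolvable G)
    (K : Subgroup G) [K.Normal] (hK : Group.IsSolvable K) : Group.IsNilpotent K := by
  have heven : Even (Nat.card G) := by
    by_contra hodd
    exact hG (Cfsg.Agent.S0205.result (Nat.not_even_iff_odd.1 hodd))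
  rcases h heven with ⟨C, hC⟩ | ⟨H, L, hHn, hLn, hlt, hL, hGH⟩ | ⟨N, M, hNn, hMn, hNM, hN, hM, hs, hc⟩
  · exact absurd (hFr C hC) hFr'
  · exact absurd (h2 H L hlt hL hGH) hG
  · have hKp := card_radical N M hN hM hs hc K hK
    obtain ⟨s, hsp, hsd, hsA⟩ := exists_not_p1 hd
    have : Fact s.Prime := ⟨hsp⟩
    obtain ⟨b, hb⟩ := exists_prime_orderOf_dvd_card' (G := G) s hsd
    exact nilpotent_of_prime (A := (P1 G)ᶜ) spl_p1.compl K (fun p hp hpd hn => hn (hKp p hp hpd)) hsp hsA hb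

end

end Cfsg.Agent.H389.NR
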