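import Cfsg.Agent.H389.NR.DiscCore
import Cfsg.Agent.H299.NR.FrobFr
import Cfsg.Agent.S3856
import Cfsg.Agent.S4001

/-!
# S3440: the case of a disconnected prime graph (helper389)
-/

set_option autoImplicit false

namespace Cfsg.Agent.H389.NR

universe u

/-- **The disconnected case.** -/
theorem nilpotent_of_disc {G : Type u} [Group G] [Finite G] (hG : ¬ Group.IsSolvable G) (hFr : ¬ Fr G) (hd : Disc G)
    (K : Subgroup G) [K.Normal] (hK : Group.IsSolvable K) : Group.IsNilpotent K := by
  refine nilpotent_of_structure hG hd ?_ (fun C hC => Cfsg.Agent.H299.NR.fr_of_frobenius hG hC) hFr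
    (fun H K _ _ hlt h1 h2 => (Cfsg.Agent.S4001.result H K hlt h1 h2).1) K hK
  intro heven
  rcases Cfsg.Agent.S3856.result heven hd with h | h | ⟨N, M, hN, hM, h1, h2, h3, h4, h5⟩
  · exact Or.inl h
  · exact Or.inr (Or.inl h)
  · exact Or.inr (Or.inr ⟨N, M, hN, hM, h1, h2, h3, h4, h5⟩)

end Cfsg.Agent.H389.NR
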