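import Cfsg.Agent.H389.NR.Disc
import Cfsg.Agent.H389.NR.Rows
import Cfsg.Agent.S0000

/-!
# S3440 for groups with disconnected prime graph
-/

set_option autoImplicit false

namespace Cfsg.Agent.H389.NR

universe u v

/-- **S3440, disconnected prime graph.** -/
theorem nilpotent_disc {G : Type u} [Group G] [Finite G] (hG : ¬ Group.IsSolvable G) {L : Type v} [Group L] [Finite L]
    [IsSimpleGroup L] (hL : ¬ IsMulCommutative L)
    (h : Set.range (orderOf : G → ℕ) = Set.range (orderOf : L → ℕ)) (hd : Disc G)
    (K : Subgroup G) [K.Normal] (hK : Group.IsSolvable K) : Group.IsNilpotent K :=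
  nilpotent_of_disc hG (fun hF => not_fr_known (L := L) Cfsg.Agent.S0000.result hL (hF.of_range h)) hd K hK

end Cfsg.Agent.H389.NR
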