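import Cfsg.Agent.H291.NR.Core
import Cfsg.Agent.H966.RC.CCS

/-!
# The prime graphs of the sporadic groups and of the Tits group are disconnected
-/

set_option autoImplicit false

namespace Cfsg.Agent.H389.NR

open Subgroup
open Cfsg.Agent.H966.RC

universe u

theorem disc_of_selfC {S : Type u} [Group S] [Finite S] (h : SelfC S) : Disc S := by
  obtain ⟨r, hr, hr2, h2, -, -, x, hx⟩ := h
  have h1 : orderOf x ∣ r := by
    rw [← hx]
    exact Subgroup.orderOf_dvd_natCard _ (mem_centralizer_singleton_iff.2 rfl)
  have h3 : orderOf x = r := by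
    rcases (Nat.dvd_prime hr).1 h1 with h4 | h4
    · exfalso
      rw [orderOf_eq_one_iff] at h4
      subst h4
      have h5 : centralizer ({1} : Set S) = ⊤ := by
        rw [eq_top_iff]
        intro y _
        rw [mem_centralizer_singleton_iff, one_mul, mul_one]
      rw [h5, Subgroup.card_top] at hx
      rw [hx] at h2
      exact hr2 ((Nat.prime_dvd_prime_iff_eq Nat.prime_two hr).1 h2).symm
    · exact h4
  exact Cfsg.Agent.H291.NR.disc_of_self hr h3 hx Nat.prime_two hr2.symm h2

theorem disc_spor {S : Type u} [Group S] [Finite S] [IsSimpleGroup S] (h : Cfsg.IsSporadicGroup S) : Disc S :=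
  disc_of_selfC (self_spor h)

theorem disc_tits {S : Type u} [Group S] [Finite S] [IsSimpleGroup S] (h : Cfsg.Lie.IsoTits S) : Disc S :=
  disc_of_selfC (self_tits h)

end Cfsg.Agent.H389.NR
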