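import Cfsg.Agent.H389.NR.DiscAll
import Cfsg.Agent.H389.NR.AltAll
import Cfsg.Agent.H389.NR.GoodNil
import Cfsg.Agent.H224.NR.CasesG
import Cfsg.Agent.S3456
import Cfsg.Agent.S3457
import Cfsg.Agent.S3461

/-!
# S3440: all cases except `PSL_4^e(q)`, `q` odd
-/

set_option autoImplicit false

namespace Cfsg.Agent.H389.NR

open Cfsg
open Cfsg.Agent.H377.NR

universe u v

theorem final_cases {G : Type u} [Group G] [Finite G] (hG : ¬ Group.IsSolvable G) {L : Type v} [Group L] [Finite L]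
    [IsSimpleGroup L] (hL : ¬ IsMulCommutative L) (hA10 : ¬ Nonempty (L ≃* alternatingGroup (Fin 10)))
    (h : Set.range (orderOf : G → ℕ) = Set.range (orderOf : L → ℕ))
    (ht : Lie.IsoTits L → Disc L) (hs : IsSporadicGroup L → Disc L) :
    NilRad G ∨
    (∃ (F : Type) (_ : Field F) (_ : Fintype F) (p : ℕ), CharP F p ∧ 5 ≤ p ∧
      Nonempty (L ≃* Matrix.ProjectiveSpecialLinearGroup (Fin 4) F)) ∨
    (∃ (F : Type) (_ : Field F) (_ : Fintype F) (q : ℕ), Fintype.card F = q ^ 2 ∧ q % 4 = 1 ∧ ¬ 3 ∣ q ∧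
      Nonempty (L ≃* PSU 4 F q)) := by
  rcases Cfsg.Agent.H224.NR.main_cases_of hG hL hA10 h Cfsg.Agent.S0000.result (Cfsg.Agent.H224.NR.two_dvd_card hL)
    ht hs (fun hd K hK hKs => nilpotent_disc hG hL h hd K hKs)
    (fun n hn h10 hr K hK hKs => nilpotent_alt hn h10 hr K hKs)
    (fun F _ _ hF n hn hr => Cfsg.Agent.S3457.result hF n hn hr)
    (fun F _ _ p _ hp hr => Cfsg.Agent.S3456.result p hp hr)
    (fun F _ _ q hq hq' hF hr => Cfsg.Agent.S3461.result q hq hq' hF hr) with h1 | h1 | h1 | h1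
  · exact Or.inl h1
  · exact Or.inl (nilRad_of_good hG h1)
  · exact Or.inr (Or.inl h1)
  · exact Or.inr (Or.inr h1)

end Cfsg.Agent.H389.NR
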