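import Cfsg.Agent.H389.NR.MayCore

/-!
# The MAY theorem (S3440)

`G` finite, `K` a solvable normal subgroup, `S ≤ G ⧸ K` simple nonabelian, `r ∣ |K|`, `r ∤ |S|`: each odd prime
`s ∣ |S|` not dividing `|K|` and not adjacent to `r` has `May s S`, provided one such prime is not a Fermat prime or is
not adjacent to `2`.
-/

set_option autoImplicit false
set_option linter.style.haveILetI false

namespace Cfsg.Agent.H389.NR

open Subgroup
open Cfsg.Agent.H80.Fpf
open Cfsg.Agent.H389.JSq (Has)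
open scoped commutatorElement

universe u v w

theorem has_subgroup {G : Type*} [Group G] {H : Subgroup G} {n : ℕ} (h : Has H n) : Has G n := by
  obtain ⟨g, hg⟩ := h
  exact ⟨g, by rw [Subgroup.orderOf_coe, hg]⟩

/-- commuting elements of orders divisible by `s` and `r` -/
theorem has_mul {G : Type*} [Group G] [Finite G] {r s : ℕ} (hr : r.Prime) (hs : s.Prime) (hsr : s ≠ r) {g v : G}
    (hg : s ∣ orderOf g) (hv : orderOf v = r) (hc : Commute g v) : Has G (r * s) := by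
  have h1 : orderOf (g ^ (orderOf g / s)) = s := orderOf_pow_orderOf_div (orderOf_pos g).ne' hg
  have h2 : Commute v (g ^ (orderOf g / s)) := (hc.pow_left _).symm
  exact ⟨v * g ^ (orderOf g / s), by
    rw [h2.orderOf_mul_eq_mul_orderOf_of_coprime (by rw [hv, h1]; exact (Nat.coprime_primes hr hs).2 hsr.symm), hv, h1]⟩

/-- the case of a minimal normal `r`-subgroup -/
theorem may_min {Γ : Type u} [Group Γ] [Finite Γ] {T : Type v} [Group T] [Finite T] [IsSimpleGroup T]
    (hna : ¬ IsMulCommutative T) (q : Γ →* T) (hq : Function.Surjective q) (hsol : Group.IsSolvable q.ker)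
    (R : Subgroup Γ) [R.Normal] (hR : R ≠ ⊥) (hmin : ∀ N : Subgroup Γ, N.Normal → N ≤ R → N = ⊥ ∨ N = R)
    (hab : ∀ a ∈ R, ∀ b ∈ R, a * b = b * a) {r : ℕ} (hr : r.Prime) (hexp : ∀ a ∈ R, a ^ r = 1)
    (hrT : ¬ r ∣ Nat.card T) {s₀ : ℕ} (hs₀ : s₀.Prime) (h2 : s₀ ≠ 2) (hT : s₀ ∣ Nat.card T)
    (hK : ¬ s₀ ∣ Nat.card q.ker) (hn₀ : ¬ Has Γ (r * s₀))
    (hex : (∀ k, s₀ ≠ 2 ^ k + 1) ∨ ¬ Has Γ (2 * s₀) ∨ (5 ≤ s₀ ∧ r ≠ 2 ∧ ¬ Has Γ (r * 2))) :
    MayAll Γ T (fun s => s.Prime ∧ s ≠ r ∧ ¬ Has Γ (r * s)) := by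
  haveI : Fact r.Prime := ⟨hr⟩
  haveI : Fact s₀.Prime := ⟨hs₀⟩
  have hsr₀ : s₀ ≠ r := by
    rintro rfl
    exact hrT hT
  have hord : ∀ v ∈ R, v ≠ 1 → orderOf v = r := fun v hv hv1 => orderOf_eq_prime (hexp v hv) hv1
  obtain ⟨v₀, hv₀, hv₀1⟩ := R.bot_or_exists_ne_one.resolve_left hR
  set C : Subgroup Γ := centralizer (R : Set Γ) with hC
  haveI hCn : C.Normal := by rw [hC]; infer_instance
  have hCker : C ≤ q.ker := by
    rcases (hCn.map q hq).eq_bot_or_eq_top with h | h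
    · rwa [Subgroup.map_eq_bot_iff] at h
    · exfalso
      have h1 : s₀ ∣ Nat.card C := by
        refine (?_ : s₀ ∣ Nat.card (C.map q)).trans (Subgroup.card_map_dvd _ _)
        rw [h, Subgroup.card_top]
        exact hT
      obtain ⟨c, hc⟩ := exists_prime_orderOf_dvd_card' (G := C) s₀ h1
      refine hn₀ (has_mul hr hs₀ hsr₀ (g := (c : Γ)) (by rw [Subgroup.orderOf_coe, hc]) (hord v₀ hv₀ hv₀1) ?_)
      exact ((mem_centralizer_iff.1 c.2) v₀ hv₀).symm
  letI : CommGroup R := { (inferInstance : Group R) with mul_comm := fun a b => Subtype.ext (hab a a.2 b b.2) }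
  let ψ : Γ →* MulAut R := MulAut.conjNormal
  have hψa : ∀ (g : Γ) (v : R), ((ψ g v : R) : Γ) = g * v * g⁻¹ := fun g v => MulAut.conjNormal_apply g v
  have hψ : ∀ g ∈ C, ψ g = 1 := by
    intro g hg
    ext v
    rw [hψa, ← (mem_centralizer_iff.1 hg v v.2), mul_inv_cancel_right]
    rfl
  let φ : Γ ⧸ C →* MulAut R := QuotientGroup.lift C ψ hψ
  have hφm : ∀ g : Γ, φ (QuotientGroup.mk' C g) = ψ g := fun g => rfl
  have hφ : Function.Injective φ := by
    rw [injective_iff_map_eq_one]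
    intro y hy
    obtain ⟨g, rfl⟩ := QuotientGroup.mk'_surjective C y
    refine (QuotientGroup.eq_one_iff g).2 ?_
    rw [hC, mem_centralizer_iff]
    intro v hv
    have h1 : ψ g ⟨v, hv⟩ = ⟨v, hv⟩ := by
      rw [← hφm, hy]
      rfl
    have h3 : g * v * g⁻¹ = v := by
      have h4 := congrArg Subtype.val h1
      rwa [hψa] at h4
    rw [mul_inv_eq_iff_eq_mul] at h3
    exact h3.symm
  let p : Γ ⧸ C →* T := QuotientGroup.lift C q (fun c hc => hCker hc)
  have hpm : ∀ g : Γ, p (QuotientGroup.mk' C g) = q g := fun g => rfl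
  have hp : Function.Surjective p := by
    intro t
    obtain ⟨g, rfl⟩ := hq t
    exact ⟨_, hpm g⟩
  have hpker : p.ker = q.ker.map (QuotientGroup.mk' C) := by
    ext y
    obtain ⟨g, rfl⟩ := QuotientGroup.mk'_surjective C y
    constructor
    · intro h
      exact ⟨g, h, rfl⟩
    · rintro ⟨k, hk, hk2⟩
      rw [← hk2]
      exact hk
  have hpsol : Group.IsSolvable p.ker := by
    rw [hpker]
    exact Group.isSolvable_of_surjective (f := (QuotientGroup.mk' C).subgroupMap q.ker)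
      ((QuotientGroup.mk' C).subgroupMap_surjective q.ker)
  have hpK : ¬ s₀ ∣ Nat.card p.ker := by
    rw [hpker]
    exact fun h => hK (h.trans (Subgroup.card_map_dvd _ _))
  haveI : Nontrivial R := (Subgroup.nontrivial_iff_ne_bot R).2 hR
  have hOr : pCore r (Γ ⧸ C) = ⊥ := by
    set N : Subgroup (Γ ⧸ C) := pCore r (Γ ⧸ C) with hN
    have hNr : IsPGroup r N := Cfsg.Agent.Lib.Cores.pCore_isPGroup r
    haveI hNn : N.Normal := Cfsg.Agent.Lib.Cores.pCore_normal r
    letI : MulAction N R := MulAction.compHom R (φ.comp N.subtype)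
    have hact : ∀ (n : N) (v : R), n • v = φ n v := fun n v => rfl
    have hRc : r ∣ Nat.card R := by
      rw [← hord v₀ hv₀ hv₀1]
      exact Subgroup.orderOf_dvd_natCard R hv₀
    obtain ⟨b, hb, hb1⟩ := hNr.exists_fixed_point_of_prime_dvd_card_of_fixed_point (α := R) hRc (a := 1) (by
      intro n
      rw [hact, map_one])
    set P : Subgroup Γ := N.comap (QuotientGroup.mk' C) with hP
    have hR0 : (R ⊓ centralizer (P : Set Γ)) = R := by
      refine (hmin (R ⊓ centralizer (P : Set Γ)) inferInstance inf_le_left).resolve_left ?_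
      intro h
      apply hb1
      have h1 : (b : Γ) ∈ R ⊓ centralizer (P : Set Γ) := by
        refine mem_inf.2 ⟨b.2, mem_centralizer_iff.2 ?_⟩
        intro g hg
        have h3 : ψ g b = b := hb ⟨QuotientGroup.mk' C g, hg⟩
        have h4 : g * (b : Γ) * g⁻¹ = b := by
          have h5 := congrArg Subtype.val h3
          rwa [hψa] at h5
        rwa [mul_inv_eq_iff_eq_mul] at h4
      rw [h, Subgroup.mem_bot] at h1
      exact (Subtype.ext h1).symm
    rw [eq_bot_iff]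
    intro y hy
    obtain ⟨g, rfl⟩ := QuotientGroup.mk'_surjective C y
    rw [Subgroup.mem_bot]
    refine (QuotientGroup.eq_one_iff g).2 ?_
    rw [hC, mem_centralizer_iff]
    intro v hv
    have h1 : v ∈ R ⊓ centralizer (P : Set Γ) := by rw [hR0]; exact hv
    exact ((mem_centralizer_iff.1 h1.2) g hy).symm
  have hfree : ∀ {s : ℕ}, s.Prime → s ≠ r → ¬ Has Γ (r * s) → ∀ y : Γ ⧸ C, orderOf y = s → ∀ v, φ y v = v → v = 1 := by
    intro s hs hsr hn y hy v hv
    by_contra hv1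
    obtain ⟨g, rfl⟩ := QuotientGroup.mk'_surjective C y
    rw [hφm] at hv
    have h4 : g * (v : Γ) * g⁻¹ = v := by
      have h5 := congrArg Subtype.val hv
      rwa [hψa] at h5
    rw [mul_inv_eq_iff_eq_mul] at h4
    refine hn (has_mul hr hs hsr (g := g) (v := (v : Γ)) ?_ (hord v v.2 (fun h => hv1 (Subtype.ext h))) h4)
    rw [← hy]
    exact orderOf_map_dvd _ g
  refine (may_core hna p hp hpsol hr (fun a => Subtype.ext (hexp a a.2)) φ hφ hOr hrT hs₀ h2 hT hpK
    (hfree hs₀ hsr₀ hn₀) ?_).mono (fun m hm => has_of_surjective _ (QuotientGroup.mk'_surjective C) hm)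
    (fun s hs => hfree hs.1 hs.2.1 hs.2.2)
  rcases hex with hex | hex | hex
  · exact Or.inl hex
  · exact Or.inr (Or.inl fun h => hex (has_of_surjective _ (QuotientGroup.mk'_surjective C) h))
  · exact Or.inr (Or.inr ⟨hex.1, hfree Nat.prime_two hex.2.1.symm hex.2.2⟩)

/-- the solvable-by-simple case -/
theorem may_sol {Γ : Type u} [Group Γ] [Finite Γ] {T : Type v} [Group T] [Finite T] [IsSimpleGroup T]
    (hna : ¬ IsMulCommutative T) (q : Γ →* T) (hq : Function.Surjective q) (hsol : Group.IsSolvable q.ker)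
    {r : ℕ} (hr : r.Prime) (hrK : r ∣ Nat.card q.ker)
    (hrT : ¬ r ∣ Nat.card T) {s₀ : ℕ} (hs₀ : s₀.Prime) (h2 : s₀ ≠ 2) (hT : s₀ ∣ Nat.card T)
    (hK : ¬ s₀ ∣ Nat.card q.ker) (hn₀ : ¬ Has Γ (r * s₀))
    (hex : (∀ k, s₀ ≠ 2 ^ k + 1) ∨ ¬ Has Γ (2 * s₀) ∨ (5 ≤ s₀ ∧ r ≠ 2 ∧ ¬ Has Γ (r * 2))) :
    MayAll Γ T (fun s => s.Prime ∧ s ≠ r ∧ ¬ Has Γ (r * s)) := by
  haveI : Fact r.Prime := ⟨hr⟩
  -- a minimal normal subgroup of order divisible by `r`
  obtain ⟨A, ⟨hAn, hAK, hrA⟩, hAmin⟩ := (Set.toFinite {A : Subgroup Γ | A.Normal ∧ A ≤ q.ker ∧ r ∣ Nat.card A}).exists_minimal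
    ⟨q.ker, inferInstance, le_rfl, hrK⟩
  obtain ⟨B, ⟨hBn, hBA⟩, hBmax⟩ := (Set.toFinite {B : Subgroup Γ | B.Normal ∧ B < A}).exists_maximal
    ⟨⊥, inferInstance, by
      rw [bot_lt_iff_ne_bot]
      rintro rfl
      rw [Subgroup.card_bot] at hrA
      exact hr.one_lt.ne' (Nat.dvd_one.1 hrA)⟩
  have hrB : ¬ r ∣ Nat.card B := fun h =>
    hBA.not_ge (hAmin ⟨hBn, hBA.le.trans hAK, h⟩ hBA.le)
  have hBK : B ≤ q.ker := hBA.le.trans hAK
  let f : Γ →* Γ ⧸ B := QuotientGroup.mk' B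
  have hf : Function.Surjective f := QuotientGroup.mk'_surjective B
  set R : Subgroup (Γ ⧸ B) := A.map f with hR
  haveI hRn : R.Normal := hAn.map f hf
  have hAR : R.comap f = A := by
    rw [hR, Subgroup.comap_map_eq, QuotientGroup.ker_mk']
    exact sup_of_le_left hBA.le
  have hmin : ∀ N : Subgroup (Γ ⧸ B), N.Normal → N ≤ R → N = ⊥ ∨ N = R := by
    intro N hN hNR
    by_cases h : N = R
    · exact Or.inr h
    · left
      have h1 : N.comap f ≤ A := by
        rw [← hAR]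
        exact Subgroup.comap_mono hNR
      have h3 : N.comap f < A := by
        refine lt_of_le_of_ne h1 ?_
        intro h4
        apply h
        rw [hR, ← h4, Subgroup.map_comap_eq_self_of_surjective hf]
      have h4 : B ≤ N.comap f := by
        intro b hb
        have hb1 : f b = 1 := (QuotientGroup.eq_one_iff b).2 hb
        rw [Subgroup.mem_comap, hb1]
        exact one_mem _
      have h5 : N.comap f ≤ B := hBmax ⟨hN.comap f, h3⟩ h4
      rw [eq_bot_iff]
      intro y hy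
      obtain ⟨g, rfl⟩ := hf y
      exact (QuotientGroup.eq_one_iff g).2 (h5 hy)
  have hcard : Nat.card A = Nat.card B * Nat.card R := by
    have h1 := Subgroup.relIndex_ker (f := f) (K := A)
    rw [QuotientGroup.ker_mk'] at h1
    have h3 : Nat.card (A.map f) = B.relIndex A := h1.symm
    rw [hR, h3]
    rw [← Subgroup.relIndex_bot_left, ← Subgroup.relIndex_bot_left, Subgroup.relIndex_mul_relIndex _ _ _ bot_le hBA.le]
  have hrR : r ∣ Nat.card R := by
    rw [hcard, hr.dvd_mul] at hrA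
    exact hrA.resolve_left hrB
  have hRne : R ≠ ⊥ := by
    intro h
    rw [h, Subgroup.card_bot] at hrR
    exact hr.one_lt.ne' (Nat.dvd_one.1 hrR)
  have hAsol : Group.IsSolvable A :=
    Group.isSolvable_of_isSolvable_injective (f := inclusion hAK) (inclusion_injective _)
  have hRsol : Group.IsSolvable R :=
    Group.isSolvable_of_surjective (f := f.subgroupMap A) (f.subgroupMap_surjective A)
  have hab : ∀ a ∈ R, ∀ b ∈ R, a * b = b * a := by
    have h1 : ⁅R, R⁆ = ⊥ := by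
      refine (hmin ⁅R, R⁆ inferInstance (commutator_le_left R R)).resolve_right ?_
      intro h
      haveI : Nontrivial R := (Subgroup.nontrivial_iff_ne_bot R).2 hRne
      have h3 := hRsol.commutator_lt_top_of_nontrivial R
      have h4 := Subgroup.map_subtype_commutator R
      apply h3.ne
      apply Subgroup.map_injective R.subtype_injective
      rw [h4, ← MonoidHom.range_eq_map, Subgroup.range_subtype, h]
    intro a ha b hb
    have h3 : ⁅a, b⁆ ∈ ⁅R, R⁆ := commutator_mem_commutator ha hb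
    rw [h1, Subgroup.mem_bot, commutatorElement_eq_one_iff_mul_comm] at h3
    exact h3
  have hexp : ∀ a ∈ R, a ^ r = 1 := by
    let W : Subgroup (Γ ⧸ B) :=
      { carrier := {a | a ∈ R ∧ a ^ r = 1}
        mul_mem' := by
          rintro a b ⟨ha, ha'⟩ ⟨hb, hb'⟩
          refine ⟨mul_mem ha hb, ?_⟩
          have hc : Commute a b := hab a ha b hb
          rw [hc.mul_pow, ha', hb', one_mul]
        one_mem' := ⟨one_mem _, one_pow _⟩
        inv_mem' := by
          rintro a ⟨ha, ha'⟩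
          exact ⟨inv_mem ha, by rw [inv_pow, ha', inv_one]⟩ }
    have hW : W = R := by
      refine (hmin W ⟨?_⟩ (fun a ha => ha.1)).resolve_left ?_
      · rintro a ⟨ha, ha'⟩ g
        refine ⟨hRn.conj_mem a ha g, ?_⟩
        rw [conj_pow, ha', mul_one, mul_inv_cancel]
      · intro h
        obtain ⟨a, ha⟩ := exists_prime_orderOf_dvd_card' (G := R) r hrR
        have h1 : (a : Γ ⧸ B) ∈ W := by
          refine ⟨a.2, ?_⟩
          rw [← ha, ← Subgroup.orderOf_coe, pow_orderOf_eq_one]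
        rw [h, Subgroup.mem_bot] at h1
        have h3 : orderOf (a : Γ ⧸ B) = r := by rw [Subgroup.orderOf_coe, ha]
        rw [h1, orderOf_one] at h3
        exact hr.one_lt.ne h3
    intro a ha
    rw [← hW] at ha
    exact ha.2
  let q' : Γ ⧸ B →* T := QuotientGroup.lift B q (fun c hc => hBK hc)
  have hqm : ∀ g : Γ, q' (f g) = q g := fun g => rfl
  have hq' : Function.Surjective q' := by
    intro t
    obtain ⟨g, rfl⟩ := hq t
    exact ⟨_, hqm g⟩
  have hqker : q'.ker = q.ker.map f := by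
    ext y
    obtain ⟨g, rfl⟩ := hf y
    constructor
    · intro h
      exact ⟨g, h, rfl⟩
    · rintro ⟨k, hk, hk2⟩
      rw [← hk2]
      exact hk
  have hqsol : Group.IsSolvable q'.ker := by
    rw [hqker]
    exact Group.isSolvable_of_surjective (f := f.subgroupMap q.ker) (f.subgroupMap_surjective q.ker)
  have hqK : ¬ s₀ ∣ Nat.card q'.ker := by
    rw [hqker]
    exact fun h => hK (h.trans (Subgroup.card_map_dvd _ _))
  refine (may_min hna q' hq' hqsol R hRne hmin hab hr hexp hrT hs₀ h2 hT hqK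
    (fun h => hn₀ (has_of_surjective f hf h)) ?_).mono (fun m hm => has_of_surjective f hf hm)
    (fun s hs => ⟨hs.1, hs.2.1, fun h => hs.2.2 (has_of_surjective f hf h)⟩)
  rcases hex with hex | hex | hex
  · exact Or.inl hex
  · exact Or.inr (Or.inl fun h => hex (has_of_surjective f hf h))
  · exact Or.inr (Or.inr ⟨hex.1, hex.2.1, fun h => hex.2.2 (has_of_surjective f hf h)⟩)

/-- **The MAY theorem**, simultaneous form: one module for all primes `s` not adjacent to `r`. -/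
theorem may_all' {G : Type u} [Group G] [Finite G] (K : Subgroup G) [K.Normal] (hK : Group.IsSolvable K)
    (S : Subgroup (G ⧸ K)) (hS : IsSimpleGroup S) (hna : ¬ IsMulCommutative S) {r : ℕ} (hr : r.Prime)
    (hrK : r ∣ Nat.card K) (hrS : ¬ r ∣ Nat.card S) {s₀ : ℕ} (hs₀ : s₀.Prime) (h2 : s₀ ≠ 2) (h₀S : s₀ ∣ Nat.card S)
    (h₀K : ¬ s₀ ∣ Nat.card K) (h₀r : ¬ Has G (r * s₀))
    (hex : (∀ k, s₀ ≠ 2 ^ k + 1) ∨ ¬ Has G (2 * s₀) ∨ (5 ≤ s₀ ∧ r ≠ 2 ∧ ¬ Has G (r * 2))) :
    MayAll G S (fun s => s.Prime ∧ s ≠ r ∧ ¬ Has G (r * s)) := by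
  let q : S.comap (QuotientGroup.mk' K) →* S := (QuotientGroup.mk' K).subgroupComap S
  have hq : Function.Surjective q := by
    rintro ⟨t, ht⟩
    obtain ⟨g, rfl⟩ := QuotientGroup.mk'_surjective K t
    exact ⟨⟨g, ht⟩, rfl⟩
  have hker : q.ker = K.subgroupOf (S.comap (QuotientGroup.mk' K)) := by
    ext g
    rw [MonoidHom.mem_ker, Subgroup.mem_subgroupOf]
    constructor
    · intro h
      have h1 : QuotientGroup.mk' K (g : G) = 1 := congrArg Subtype.val h
      exact (QuotientGroup.eq_one_iff (g : G)).1 h1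
    · intro h
      exact Subtype.ext ((QuotientGroup.eq_one_iff (g : G)).2 h)
  have hKle : K ≤ S.comap (QuotientGroup.mk' K) := by
    intro k hk
    have hk1 : QuotientGroup.mk' K k = 1 := (QuotientGroup.eq_one_iff k).2 hk
    rw [Subgroup.mem_comap, hk1]
    exact one_mem _
  have e : q.ker ≃* K := by
    rw [hker]
    exact Subgroup.subgroupOfEquivOfLe hKle
  have hcard : Nat.card q.ker = Nat.card K := Nat.card_congr e.toEquiv
  have hsol : Group.IsSolvable q.ker :=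
    Group.isSolvable_of_isSolvable_injective (f := e.toMonoidHom) e.injective
  refine (may_sol hna q hq hsol hr (by rw [hcard]; exact hrK) hrS hs₀ h2 h₀S (by rw [hcard]; exact h₀K)
    (fun h => h₀r (has_subgroup h)) ?_).mono (fun m hm => has_subgroup hm)
    (fun s hs => ⟨hs.1, hs.2.1, fun h => hs.2.2 (has_subgroup h)⟩)
  rcases hex with hex | hex | hex
  · exact Or.inl hex
  · exact Or.inr (Or.inl fun h => hex (has_subgroup h))
  · exact Or.inr (Or.inr ⟨hex.1, hex.2.1, fun h => hex.2.2 (has_subgroup h)⟩)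

/-- **The MAY theorem**, simultaneous form: one module for all primes `s` not adjacent to `r`. -/
theorem may_all {G : Type u} [Group G] [Finite G] (K : Subgroup G) [K.Normal] (hK : Group.IsSolvable K)
    (S : Subgroup (G ⧸ K)) (hS : IsSimpleGroup S) (hna : ¬ IsMulCommutative S) {r : ℕ} (hr : r.Prime)
    (hrK : r ∣ Nat.card K) (hrS : ¬ r ∣ Nat.card S) {s₀ : ℕ} (hs₀ : s₀.Prime) (h2 : s₀ ≠ 2) (h₀S : s₀ ∣ Nat.card S)
    (h₀K : ¬ s₀ ∣ Nat.card K) (h₀r : ¬ Has G (r * s₀)) (hex : (∀ k, s₀ ≠ 2 ^ k + 1) ∨ ¬ Has G (2 * s₀)) :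
    MayAll G S (fun s => s.Prime ∧ s ≠ r ∧ ¬ Has G (r * s)) := by
  refine may_all' K hK S hS hna hr hrK hrS hs₀ h2 h₀S h₀K h₀r ?_
  rcases hex with hex | hex
  · exact Or.inl hex
  · exact Or.inr (Or.inl hex)

/-- **The MAY theorem**, with the third alternative. -/
theorem may_of' {G : Type u} [Group G] [Finite G] (K : Subgroup G) [K.Normal] (hK : Group.IsSolvable K)
    (S : Subgroup (G ⧸ K)) (hS : IsSimpleGroup S) (hna : ¬ IsMulCommutative S) {r : ℕ} (hr : r.Prime)
    (hrK : r ∣ Nat.card K) (hrS : ¬ r ∣ Nat.card S) {s₀ : ℕ} (hs₀ : s₀.Prime) (h2 : s₀ ≠ 2) (h₀S : s₀ ∣ Nat.card S)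
    (h₀K : ¬ s₀ ∣ Nat.card K) (h₀r : ¬ Has G (r * s₀))
    (hex : (∀ k, s₀ ≠ 2 ^ k + 1) ∨ ¬ Has G (2 * s₀) ∨ (5 ≤ s₀ ∧ r ≠ 2 ∧ ¬ Has G (r * 2))) :
    ∀ s : ℕ, s.Prime → s ∣ Nat.card S → ¬ Has G (r * s) → May s S := by
  intro s hs hsS hn
  refine (may_all' K hK S hS hna hr hrK hrS hs₀ h2 h₀S h₀K h₀r hex).may ⟨hs, ?_, hn⟩
  rintro rfl
  exact hrS hsS

/-- **The MAY theorem.** -/
theorem may_of {G : Type u} [Group G] [Finite G] (K : Subgroup G) [K.Normal] (hK : Group.IsSolvable K)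
    (S : Subgroup (G ⧸ K)) (hS : IsSimpleGroup S) (hna : ¬ IsMulCommutative S) {r : ℕ} (hr : r.Prime)
    (hrK : r ∣ Nat.card K) (hrS : ¬ r ∣ Nat.card S) {s₀ : ℕ} (hs₀ : s₀.Prime) (h2 : s₀ ≠ 2) (h₀S : s₀ ∣ Nat.card S)
    (h₀K : ¬ s₀ ∣ Nat.card K) (h₀r : ¬ Has G (r * s₀)) (hex : (∀ k, s₀ ≠ 2 ^ k + 1) ∨ ¬ Has G (2 * s₀)) :
    ∀ s : ℕ, s.Prime → s ∣ Nat.card S → ¬ Has G (r * s) → May s S := by
  intro s hs hsS hn
  refine (may_all K hK S hS hna hr hrK hrS hs₀ h2 h₀S h₀K h₀r hex).may ⟨hs, ?_, hn⟩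
  rintro rfl
  exact hrS hsS

end Cfsg.Agent.H389.NR
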