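import Cfsg.Agent.H80.Fpf.Lift
import Cfsg.Agent.H80.Fpf.Crit
import Cfsg.Agent.SignalizersComponents.NoFixedGen
import Cfsg.Agent.SignalizersComponents.NoFixedAbelian
import Cfsg.Agent.Lib.Cores
import Cfsg.Agent.S1264
import Cfsg.Agent.H389.Basic
import Cfsg.Agent.H389.NR.UniqInv

/-!
# Fixed point free primes of a solvable-by-simple group (S3440, the MAY theorem)
-/

set_option autoImplicit false
set_option linter.style.haveILetI false

namespace Cfsg.Agent.H389.NR

open Subgroup
open Cfsg.Agent.H80.Fpf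
open Cfsg.Agent.H389.JSq (Has)
open scoped commutatorElement

universe u v w

/-- the derived subgroup of a central extension of a perfect group -/
theorem isCover_commutator {D : Type u} {T : Type v} [Group D] [Group T] (q : D →* T)
    (hq : Function.Surjective q) (hz : q.ker ≤ center D) (hT : commutator T = ⊤) :
    IsCover (q.comp (commutator D).subtype) := by
  have hmap : (commutator D).map q = ⊤ := by
    rw [commutator_def, map_commutator, ← MonoidHom.range_eq_map, MonoidHom.range_eq_top.2 hq, ← commutator_def, hT]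
  have hdec : ∀ d : D, ∃ e ∈ commutator D, ∃ z ∈ center D, d = e * z := by
    intro d
    have h1 : q d ∈ (commutator D).map q := by rw [hmap]; exact mem_top _
    obtain ⟨e, he, hed⟩ := h1
    refine ⟨e, he, e⁻¹ * d, hz ?_, by group⟩
    rw [MonoidHom.mem_ker, map_mul, map_inv, hed, inv_mul_cancel]
  refine ⟨?_, ?_, ?_⟩
  · intro t
    have h1 : t ∈ (commutator D).map q := by rw [hmap]; exact mem_top _
    obtain ⟨e, he, het⟩ := h1
    exact ⟨⟨e, he⟩, het⟩
  · intro x hx
    have h1 : (x : D) ∈ center D := hz hx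
    rw [mem_center_iff] at h1 ⊢
    intro y
    exact Subtype.ext (h1 y)
  · have h1 : commutator D ≤ (commutator (commutator D)).map (commutator D).subtype := by
      rw [commutator_def, commutator_le]
      intro a _ b _
      obtain ⟨e, he, z, hz1, rfl⟩ := hdec a
      obtain ⟨f, hf, w, hw1, rfl⟩ := hdec b
      have h2 : ⁅e * z, f * w⁆ = ⁅e, f⁆ := by
        rw [mem_center_iff] at hz1 hw1
        rw [commutatorElement_def, commutatorElement_def, mul_inv_rev, mul_inv_rev]
        have h3 : e * z * (f * w) * (z⁻¹ * e⁻¹) * (w⁻¹ * f⁻¹) = e * (z * f) * (w * (z⁻¹ * e⁻¹)) * w⁻¹ * f⁻¹ := by group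
        rw [h3, ← hz1 f, ← hw1 (z⁻¹ * e⁻¹)]
        group
      rw [h2]
      exact ⟨⁅⟨e, he⟩, ⟨f, hf⟩⁆, commutator_mem_commutator (mem_top _) (mem_top _), rfl⟩
    rw [eq_top_iff]
    intro x _
    obtain ⟨y, hy, hyx⟩ := h1 x.2
    rwa [← Subtype.ext hyx]

/-- a power of an element of the preimage -/
theorem has_of_surjective {G H : Type*} [Group G] [Group H] [Finite G] (f : G →* H)
    (hf : Function.Surjective f) {n : ℕ} (h : Has H n) : Has G n := by
  obtain ⟨y, hy⟩ := h
  obtain ⟨x, rfl⟩ := hf y
  have h1 : n ∣ orderOf x := by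
    rw [← hy]
    exact orderOf_map_dvd f x
  exact ⟨x ^ (orderOf x / n), orderOf_pow_orderOf_div (orderOf_pos x).ne' h1⟩

/-- One finite perfect central extension of `T` with a complex representation in which all elements of order `s`,
`P s`, act fixed point freely, and whose element orders are element orders of `X`. -/
def MayAll (X : Type u) [Group X] (T : Type v) [Group T] (P : ℕ → Prop) : Prop :=
  ∃ (Γ : Type) (_ : Group Γ) (_ : Finite Γ) (π : Γ →* T) (n : ℕ) (ρ : Representation ℂ Γ (Fin n → ℂ)),
    IsCover π ∧ 0 < n ∧ (∀ m, Has Γ m → Has X m) ∧ ∀ s, P s → ∀ g : Γ, orderOf g = s → ∀ v, ρ g v = v → v = 0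

theorem MayAll.mono {X : Type u} [Group X] {X' : Type w} [Group X'] {T : Type v} [Group T] {P P' : ℕ → Prop}
    (h : MayAll X T P) (hX : ∀ m, Has X m → Has X' m) (hP : ∀ s, P' s → P s) : MayAll X' T P' := by
  obtain ⟨Γ, iG, iF, π, n, ρ, h1, h2, h3, h4⟩ := h
  exact ⟨Γ, iG, iF, π, n, ρ, h1, h2, fun m hm => hX m (h3 m hm), fun s hs => h4 s (hP s hs)⟩

theorem MayAll.may {X : Type u} [Group X] {T : Type v} [Group T] {P : ℕ → Prop} (h : MayAll X T P) {s : ℕ}
    (hs : P s) : May s T := by
  obtain ⟨Γ, iG, iF, π, n, ρ, h1, h2, h3, h4⟩ := h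
  exact ⟨Γ, iG, iF, π, h1, n, ρ, h2, h4 s hs⟩

theorem MayAll.of_cover {X : Type u} [Group X] {T : Type v} [Group T] {P : ℕ → Prop} {E : Type w} [Group E] [Finite E]
    {π : E →* T} (h : IsCover π) {n : ℕ} (ρ : Representation ℂ E (Fin n → ℂ)) (hn : 0 < n)
    (hX : ∀ m, Has E m → Has X m) (hP : ∀ s, P s → ∀ g : E, orderOf g = s → ∀ v, ρ g v = v → v = 0) :
    MayAll X T P := by
  haveI : Small.{0} E := inferInstance
  let e : Shrink.{0} E ≃* E := Shrink.mulEquiv
  haveI : Finite (Shrink.{0} E) := Finite.of_equiv E (equivShrink E)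
  refine ⟨Shrink.{0} E, inferInstance, inferInstance, _, n, ρ.comp e.toMonoidHom, h.comp_equiv e, hn, ?_, ?_⟩
  · rintro m ⟨g, hg⟩
    exact hX m ⟨e g, by rw [← hg]; exact e.orderOf_eq g⟩
  · intro s hs g hg v hv
    exact hP s hs (e g) (by rw [← hg]; exact e.orderOf_eq g) v hv

/-- **The MAY theorem, core.** -/
theorem may_core {Y : Type u} [Group Y] [Finite Y] {T : Type v} [Group T] [Finite T] [IsSimpleGroup T]
    (hna : ¬ IsMulCommutative T) (p : Y →* T) (hp : Function.Surjective p) (hsol : Group.IsSolvable p.ker)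
    {V : Type w} [CommGroup V] [Finite V] [Nontrivial V] {r : ℕ} (hr : r.Prime) (hV : ∀ a : V, a ^ r = 1)
    (φ : Y →* MulAut V) (hφ : Function.Injective φ) (hOr : pCore r Y = ⊥) (hrT : ¬ r ∣ Nat.card T)
    {s₀ : ℕ} (hs₀ : s₀.Prime) (h2 : s₀ ≠ 2) (hT : s₀ ∣ Nat.card T) (hK : ¬ s₀ ∣ Nat.card p.ker)
    (hf₀ : ∀ y : Y, orderOf y = s₀ → ∀ v, φ y v = v → v = 1)
    (hex : (∀ k, s₀ ≠ 2 ^ k + 1) ∨ ¬ Has Y (2 * s₀) ∨
      (5 ≤ s₀ ∧ ∀ y : Y, orderOf y = 2 → ∀ v, φ y v = v → v = 1)) :
    MayAll Y T (fun s => ∀ y : Y, orderOf y = s → ∀ v, φ y v = v → v = 1) := by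
  haveI : Fact r.Prime := ⟨hr⟩
  haveI : Fact s₀.Prime := ⟨hs₀⟩
  -- an element of order `s₀`
  have hsr : s₀ ≠ r := by
    rintro rfl
    exact hrT hT
  have hcardY : Nat.card Y = Nat.card p.ker * Nat.card T := by
    have h1 := Subgroup.card_mul_index p.ker
    rw [Subgroup.index_ker, MonoidHom.range_eq_top.2 hp, Subgroup.card_top] at h1
    exact h1.symm
  obtain ⟨x, hx⟩ := exists_prime_orderOf_dvd_card' (G := Y) s₀ (by rw [hcardY]; exact hT.mul_left _)
  -- `x` centralizes each `O_t(Y)`
  have hcent : ∀ t : ℕ, t.Prime → ∀ k ∈ pCore t Y, x * k = k * x := by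
    intro t ht
    haveI : Fact t.Prime := ⟨ht⟩
    have hpc := Cfsg.Agent.Lib.Cores.pCore_isPGroup (G := Y) t
    have hn := Cfsg.Agent.Lib.Cores.pCore_normal (G := Y) t
    have hker : pCore t Y ≤ p.ker := by
      have h1 : ((pCore t Y).map p).Normal := hn.map p hp
      rcases h1.eq_bot_or_eq_top with h3 | h3
      · rwa [Subgroup.map_eq_bot_iff] at h3
      · exfalso
        have h4 : IsPGroup t ((pCore t Y).map p) := hpc.map p
        have h5 : Group.IsNilpotent ((pCore t Y).map p) := h4.isNilpotent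
        rw [h3] at h5
        have h6 : Group.IsSolvable T := Group.isSolvable_of_isSolvable_injective
          (f := (Subgroup.topEquiv.symm : T ≃* (⊤ : Subgroup T)).toMonoidHom) (Subgroup.topEquiv.symm : T ≃* _).injective
        exact hna ⟨⟨IsSimpleGroup.comm_iff_isSolvable.2 h6⟩⟩
    by_cases htr : t = r
    · subst htr
      intro k hk
      rw [hOr, Subgroup.mem_bot] at hk
      rw [hk, one_mul, mul_one]
    by_cases hts : t = s₀
    · subst hts
      intro k hk
      have h1 : k = 1 := by
        by_contra hk1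
        apply hK
        obtain ⟨j, hj⟩ := (IsPGroup.iff_orderOf.1 hpc) ⟨k, hk⟩
        rw [Subgroup.orderOf_mk] at hj
        have hj0 : j ≠ 0 := by
          rintro rfl
          rw [pow_zero, orderOf_eq_one_iff] at hj
          exact hk1 hj
        refine (dvd_pow_self t hj0).trans ?_
        rw [← hj]
        exact Subgroup.orderOf_dvd_natCard _ (hker hk)
      rw [h1, one_mul, mul_one]
    obtain ⟨j, hj⟩ := (IsPGroup.iff_card (p := t)).1 hpc
    have hxK : ∀ N : Subgroup Y, N.Normal → ∀ k ∈ N, x * k * x⁻¹ ∈ N := fun N hN k hk => hN.conj_mem k hk x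
    have hsolt : Group.IsSolvable (pCore t Y) := by
      haveI := hpc.isNilpotent
      infer_instance
    have hnd : ∀ {q : ℕ}, q.Prime → q ≠ t → ∀ i, ¬ q ∣ t ^ i := fun hq hqt i h =>
      hqt ((Nat.prime_dvd_prime_iff_eq hq ht).1 (hq.dvd_of_dvd_pow h))
    have hxr : x ^ s₀ = 1 := by rw [← hx, pow_orderOf_eq_one]
    have fin : ∀ (N : Subgroup Y), (∀ k ∈ N, ∀ a, φ (x * k) a = φ (k * x) a) → ∀ k ∈ N, x * k = k * x := by
      intro N h k hk
      apply hφ
      ext a
      exact h k hk a
    by_cases hbad : (s₀ - 1) ^ 2 ∣ Nat.card (pCore t Y)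
    · -- `t = 2`
      have ht2 : t = 2 := by
        have h1 : 2 ∣ s₀ - 1 := by
          have := hs₀.eq_two_or_odd
          omega
        have h3 : 2 ∣ t ^ j := by
          rw [← hj]
          exact ((dvd_pow_self _ two_ne_zero).trans (pow_dvd_pow_of_dvd h1 2)).trans hbad
        exact ((Nat.prime_dvd_prime_iff_eq Nat.prime_two ht).1 (Nat.prime_two.dvd_of_dvd_pow h3)).symm
      subst ht2
      rcases hex with hex | hex | ⟨h5, hinv⟩
      · exfalso
        rw [hj] at hbad
        obtain ⟨i, -, hi⟩ := (Nat.dvd_prime_pow Nat.prime_two).1 ((dvd_pow_self _ two_ne_zero).trans hbad)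
        exact hex i (by have := hs₀.one_lt; omega)
      · -- the centre
        set Z : Subgroup Y := (center (pCore 2 Y)).map (pCore 2 Y).subtype with hZ
        have hZn : Z.Normal := by
          rw [hZ]
          infer_instance
        have hZle : Z ≤ pCore 2 Y := Subgroup.map_subtype_le _
        have hZ2 : IsPGroup 2 Z := hpc.to_le hZle
        obtain ⟨i, hi⟩ := (IsPGroup.iff_card (p := 2)).1 hZ2
        have hZs : Group.IsSolvable Z := by
          haveI := hZ2.isNilpotent
          infer_instance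
        have h1 : ∀ k ∈ Z, x * k = k * x := by
          refine fin Z (Cfsg.Agent.SignalizersComponents.NoFixedAbelian.elem_version r hV φ Z x hs₀ hxr (hxK Z hZn) hZs ?_
            (by rw [hi]; exact hnd hs₀ h2 i) (by rw [hi]; exact hnd hr (Ne.symm htr) i) hsr (hf₀ x hx))
          rintro _ ⟨a, ha, rfl⟩ _ ⟨b, hb, rfl⟩
          exact congrArg Subtype.val ((mem_center_iff.1 ha) b).symm
        have h3 : Z = ⊥ := by
          rw [eq_bot_iff]
          intro k hk
          rw [Subgroup.mem_bot]
          by_contra hk1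
          apply hex
          obtain ⟨m, hm⟩ := (IsPGroup.iff_orderOf.1 hZ2) ⟨k, hk⟩
          rw [Subgroup.orderOf_mk] at hm
          have hm0 : m ≠ 0 := by
            rintro rfl
            rw [pow_zero, orderOf_eq_one_iff] at hm
            exact hk1 hm
          have hk2 : orderOf (k ^ (orderOf k / 2)) = 2 :=
            orderOf_pow_orderOf_div (orderOf_pos k).ne' (by rw [hm]; exact dvd_pow_self 2 hm0)
          have hc : Commute (k ^ (orderOf k / 2)) x := (show Commute k x from (h1 k hk).symm).pow_left _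
          refine ⟨k ^ (orderOf k / 2) * x, ?_⟩
          rw [hc.orderOf_mul_eq_mul_orderOf_of_coprime (by
            rw [hk2, hx]; exact (Nat.coprime_primes Nat.prime_two hs₀).2 (Ne.symm h2)), hk2, hx]
        have h4 : pCore 2 Y = ⊥ := by
          rw [hZ, Subgroup.map_eq_bot_iff_of_injective _ (pCore 2 Y).subtype_injective] at h3
          by_contra hne
          haveI : Nontrivial (pCore 2 Y) := (Subgroup.nontrivial_iff_ne_bot _).2 hne
          haveI := hpc.center_nontrivial
          exact (Subgroup.nontrivial_iff_ne_bot _).1 this h3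
        intro k hk
        rw [h4, Subgroup.mem_bot] at hk
        rw [hk, one_mul, mul_one]
      · -- one involution
        have hinv' : ∀ y : Y, orderOf y = 2 → ∀ v, φ y v = v⁻¹ := by
          intro y hy v
          have h1 : y * y = 1 := by rw [← pow_two, ← hy, pow_orderOf_eq_one]
          have h3 : φ y (v * φ y v) = v * φ y v := by
            rw [map_mul, ← MulAut.mul_apply, ← map_mul, h1, map_one, MulAut.one_apply, mul_comm]
          have h4 := hinv y hy _ h3
          exact eq_inv_of_mul_eq_one_right h4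
        have huniq : ∀ H K : Subgroup (pCore 2 Y), Nat.card H = 2 → Nat.card K = 2 → H = K := by
          haveI : Fact (Nat.Prime 2) := ⟨Nat.prime_two⟩
          have key : ∀ H : Subgroup (pCore 2 Y), Nat.card H = 2 → ∃ a : pCore 2 Y, orderOf (a : Y) = 2 ∧ H = zpowers a := by
            intro H hH
            obtain ⟨a, ha⟩ := exists_prime_orderOf_dvd_card' (G := H) 2 (by rw [hH])
            refine ⟨(a : pCore 2 Y), ?_, ?_⟩
            · rw [Subgroup.orderOf_coe, Subgroup.orderOf_coe, ha]
            · refine (Subgroup.eq_of_le_of_card_ge (by rw [Subgroup.zpowers_le]; exact a.2) ?_).symm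
              rw [Nat.card_zpowers, Subgroup.orderOf_coe, ha, hH]
          intro H K hH hK
          obtain ⟨a, ha, rfl⟩ := key H hH
          obtain ⟨b, hb, rfl⟩ := key K hK
          have h1 : a = b := by
            apply Subtype.ext
            apply hφ
            ext v
            rw [hinv' _ ha, hinv' _ hb]
          rw [h1]
        intro k hk
        have h1 : (MulAut.conjNormal x : MulAut (pCore 2 Y)) = 1 :=
          aut_eq_one hpc huniq hs₀ h5 _ (by rw [← map_pow, hxr, map_one])
        have h3 : ((MulAut.conjNormal x : MulAut (pCore 2 Y)) ⟨k, hk⟩ : Y) = k := by rw [h1]; rfl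
        rw [MulAut.conjNormal_apply, mul_inv_eq_iff_eq_mul] at h3
        exact h3
    · exact fin _ (Cfsg.Agent.SignalizersComponents.NoFixedGen.elem_version r hV φ (pCore t Y) x hs₀ h2 hxr (hxK _ hn)
        hsolt hbad (by rw [hj]; exact hnd hs₀ (Ne.symm hts) j) (by rw [hj]; exact hnd hr (Ne.symm htr) j) hsr (hf₀ x hx))
  -- `x` centralizes the Fitting subgroup
  set F := fittingSubgroup Y with hF
  have hxD : x ∈ centralizer (F : Set Y) := by
    have h1 : F ≤ centralizer {x} := by
      rw [hF, Cfsg.Agent.Lib.Cores.fittingSubgroup_eq_iSup_pCore]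
      refine iSup_le fun t k hk => ?_
      rw [mem_centralizer_singleton_iff]
      exact (hcent t t.2 k hk).symm
    rw [mem_centralizer_iff]
    intro k hk
    have := h1 hk
    rw [mem_centralizer_singleton_iff] at this
    exact this
  set D : Subgroup Y := centralizer (F : Set Y) with hD
  haveI hFn : F.Normal := Cfsg.Agent.Lib.Cores.fittingSubgroup_normal
  haveI hDn : D.Normal := by rw [hD]; infer_instance
  have hmapD : D.map p = ⊤ := by
    rcases (hDn.map p hp).eq_bot_or_eq_top with h | h
    · exfalso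
      rw [Subgroup.map_eq_bot_iff] at h
      apply hK
      rw [← hx]
      exact Subgroup.orderOf_dvd_natCard _ (h hxD)
    · exact h
  -- `ker p ⊓ D` is central in `D`
  have hkD : p.ker ⊓ D ≤ F := by
    have h1 : Group.IsSolvable (p.ker ⊓ D : Subgroup Y) :=
      Group.isSolvable_of_isSolvable_injective (f := inclusion (inf_le_left : p.ker ⊓ D ≤ p.ker)) (inclusion_injective _)
    have h3 := Cfsg.Agent.S1264.result (G := Y) (p.ker ⊓ D) inf_le_right (by
      have : (p.ker ⊓ D).Normal := inferInstance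
      rw [Subgroup.normalizer_eq_top]
      exact le_top) h1
    exact h3.trans (Subgroup.map_subtype_le _)
  let q : D →* T := p.comp D.subtype
  have hq : Function.Surjective q := by
    intro t
    have h1 : t ∈ D.map p := by rw [hmapD]; exact mem_top _
    obtain ⟨d, hd, hdt⟩ := h1
    exact ⟨⟨d, hd⟩, hdt⟩
  have hqz : q.ker ≤ center D := by
    intro z hz
    have h1 : (z : Y) ∈ F := hkD ⟨hz, z.2⟩
    rw [mem_center_iff]
    intro y
    exact Subtype.ext ((mem_centralizer_iff.1 y.2) z h1).symm
  have hTp : commutator T = ⊤ := by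
    have h1 : (commutator T).Normal := inferInstance
    rcases h1.eq_bot_or_eq_top with h | h
    · exfalso
      apply hna
      rw [commutator_def, commutator_top_right_eq_bot_iff_le_center] at h
      refine ⟨⟨fun a b => ?_⟩⟩
      exact ((mem_center_iff.1 (h (mem_top a))) b).symm
    · exact h
  have hcov := isCover_commutator q hq hqz hTp
  -- the order of `E` is prime to `r`
  have hrF : ¬ r ∣ Nat.card F := by
    intro h
    obtain ⟨z, hz⟩ := exists_prime_orderOf_dvd_card' (G := F) r h
    -- `O_r(F) = 1`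
    haveI hFnil : Group.IsNilpotent F := Cfsg.Agent.Lib.Cores.fittingSubgroup_isNilpotent
    have h1 : (pCore r F).map F.subtype = F ⊓ pCore r Y := Cfsg.Agent.Lib.Cores.map_subtype_pCore r hFn
    rw [hOr, inf_bot_eq, Subgroup.map_eq_bot_iff_of_injective _ F.subtype_injective] at h1
    obtain ⟨P⟩ : Nonempty (Sylow r F) := inferInstance
    have h3 : (P : Subgroup F).Normal := inferInstance
    have h4 := Cfsg.Agent.Lib.Cores.le_pCore h3 P.isPGroup'
    rw [h1, le_bot_iff] at h4
    have h5 := P.dvd_card_of_dvd_card h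
    rw [h4, Subgroup.card_bot] at h5
    exact hr.one_lt.ne' (Nat.dvd_one.1 h5)
  have hrE : ¬ r ∣ Nat.card (commutator D) := by
    intro h
    obtain ⟨z, hz⟩ := exists_prime_orderOf_dvd_card' (G := commutator D) r h
    have hz1 : q (z : D) = 1 := by
      by_contra hne
      apply hrT
      have h1 : orderOf (q (z : D)) ∣ r := by
        rw [← hz, ← Subgroup.orderOf_coe]
        exact orderOf_map_dvd q _
      rcases (Nat.dvd_prime hr).1 h1 with h3 | h3
      · exact absurd (orderOf_eq_one_iff.1 h3) hne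
      · rw [← h3]
        exact orderOf_dvd_natCard _
    apply hrF
    have h1 : ((z : D) : Y) ∈ F := hkD ⟨hz1, (z : D).2⟩
    have h3 := Subgroup.orderOf_dvd_natCard F h1
    rwa [Subgroup.orderOf_coe, Subgroup.orderOf_coe, hz] at h3
  have hVr : IsPGroup r V := fun a => ⟨1, by rw [pow_one]; exact hV a⟩
  obtain ⟨n, ρ, hn, hρ⟩ := exists_rep (G := commutator D) (V := V) hr hVr hrE
    (φ.comp (D.subtype.comp (commutator D).subtype))
  refine MayAll.of_cover hcov ρ hn ?_ ?_
  · rintro m ⟨g, hg⟩
    exact ⟨((g : D) : Y), by rw [Subgroup.orderOf_coe, Subgroup.orderOf_coe, hg]⟩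
  · intro s hf g hg
    have h1 : orderOf (((g : D) : Y)) = s := by
      rw [Subgroup.orderOf_coe, Subgroup.orderOf_coe, hg]
    exact hρ g (hf _ h1)

end Cfsg.Agent.H389.NR
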